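import Groth.Agent.Lib.SerreK0.Periodic
import Mathlib.CategoryTheory.Abelian.SerreClass.Localization

/-!
The exact sequence `K₀(P) → K₀(A) → K₀(A/P) → 0` of a Serre quotient.
-/

set_option autoImplicit false
set_option linter.style.haveILetI false
set_option linter.unusedSectionVars false

universe v v' u u'

open CategoryTheory CategoryTheory.Limits
open scoped ZeroObject

namespace Groth.Agent.Lib.SerreK0.Main

variable {A : Type u} [Category.{v} A] [Abelian A] (P : ObjectProperty A) [P.IsSerreClass]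

theorem clSub_of_prop {X : A} (h : P X) :
    KZero.clSub P X = QuotientAddGroup.mk (FreeAbelianGroup.of (⟨X, h⟩ : Subtype P)) := by
  simp [KZero.clSub, h]

theorem clSub_shortExact {S : ShortComplex A} (hS : S.ShortExact) (h₁ : P S.X₁) (h₂ : P S.X₂)
    (h₃ : P S.X₃) : KZero.clSub P S.X₂ = KZero.clSub P S.X₁ + KZero.clSub P S.X₃ := by
  rw [clSub_of_prop P h₁, clSub_of_prop P h₂, clSub_of_prop P h₃]
  have : (QuotientAddGroup.mk (FreeAbelianGroup.of (⟨S.X₂, h₂⟩ : Subtype P) -
      FreeAbelianGroup.of (⟨S.X₁, h₁⟩ : Subtype P) - FreeAbelianGroup.of (⟨S.X₃, h₃⟩ : Subtype P)) :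
      KZero.K0sub P) = 0 :=
    (QuotientAddGroup.eq_zero_iff _).2 (AddSubgroup.subset_closure ⟨S, h₁, h₂, h₃, hS, rfl⟩)
  rw [QuotientAddGroup.mk_sub, QuotientAddGroup.mk_sub, sub_sub, sub_eq_zero] at this
  exact this

theorem clSub_isZero {X : A} (h : IsZero X) : KZero.clSub P X = 0 := by
  have hP : P X := P.prop_of_isZero h
  have hS : (ShortComplex.mk (0 : X ⟶ X) (0 : X ⟶ X) (by simp)).ShortExact :=
    { exact := ShortComplex.exact_of_isZero_X₂ _ h
      mono_f := ⟨fun _ _ _ => h.eq_of_tgt _ _⟩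
      epi_g := ⟨fun _ _ _ => h.eq_of_src _ _⟩ }
  exact left_eq_add.mp (clSub_shortExact P hS hP hP hP)

theorem clSub_iso {X Y : A} (e : X ≅ Y) (h : P X) : KZero.clSub P X = KZero.clSub P Y := by
  have h' : P Y := P.prop_of_iso e h
  have := clSub_shortExact P (Periodic.shortExact_iso e) h h' (P.prop_of_isZero (isZero_zero A))
  change KZero.clSub P Y = KZero.clSub P X + KZero.clSub P (0 : A) at this
  rw [clSub_isZero P (isZero_zero A), add_zero] at this
  exact this.symm

theorem exists_eq_sub (x : KZero.K0sub P) :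
    ∃ X Y : A, P X ∧ P Y ∧ x = KZero.clSub P X - KZero.clSub P Y := by
  obtain ⟨z, rfl⟩ := QuotientAddGroup.mk_surjective x
  induction z using FreeAbelianGroup.induction_on with
  | zero =>
    exact ⟨0, 0, P.prop_of_isZero (isZero_zero A), P.prop_of_isZero (isZero_zero A), by simp⟩
  | of w =>
    refine ⟨w.1, 0, w.2, P.prop_of_isZero (isZero_zero A), ?_⟩
    rw [clSub_of_prop P w.2, clSub_isZero P (isZero_zero A), sub_zero]
  | neg w hw =>
    obtain ⟨X, Y, hX, hY, e⟩ := hw
    refine ⟨Y, X, hY, hX, ?_⟩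
    rw [QuotientAddGroup.mk_neg, e, neg_sub]
  | add a b ha hb =>
    obtain ⟨X, Y, hX, hY, e⟩ := ha
    obtain ⟨X', Y', hX', hY', e'⟩ := hb
    have hXX : P (X ⊞ X') := P.prop_X₂_of_shortExact
      (ShortComplex.Splitting.ofHasBinaryBiproduct X X').shortExact hX hX'
    have hYY : P (Y ⊞ Y') := P.prop_X₂_of_shortExact
      (ShortComplex.Splitting.ofHasBinaryBiproduct Y Y').shortExact hY hY'
    have h1 : KZero.clSub P (X ⊞ X') = KZero.clSub P X + KZero.clSub P X' :=
      clSub_shortExact P (ShortComplex.Splitting.ofHasBinaryBiproduct X X').shortExact hX hXX hX'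
    have h2 : KZero.clSub P (Y ⊞ Y') = KZero.clSub P Y + KZero.clSub P Y' :=
      clSub_shortExact P (ShortComplex.Splitting.ofHasBinaryBiproduct Y Y').shortExact hY hYY hY'
    refine ⟨X ⊞ X', Y ⊞ Y', hXX, hYY, ?_⟩
    rw [QuotientAddGroup.mk_add, e, e', h1, h2]
    abel

/-- The inclusion on `K₀`. -/
noncomputable def incl : KZero.K0sub P →+ KZero.K0 A :=
  QuotientAddGroup.lift (KZero.relSub P) (FreeAbelianGroup.lift fun X : Subtype P => KZero.cl X.1) (by
    rw [KZero.relSub, AddSubgroup.closure_le]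
    rintro _ ⟨S, h₁, h₂, h₃, hS, rfl⟩
    simp only [SetLike.mem_coe, AddMonoidHom.mem_ker, map_sub, FreeAbelianGroup.lift_apply_of]
    rw [Periodic.cl_shortExact hS]
    abel)

theorem incl_clSub {X : A} (h : P X) : incl P (KZero.clSub P X) = KZero.cl X := by
  rw [clSub_of_prop P h]
  exact FreeAbelianGroup.lift_apply_of _ _

theorem incl_eq_zero_iff (x : KZero.K0sub P) :
    incl P x = 0 ↔ ∃ (M : A) (φ ψ : M ⟶ M) (h₁ : φ ≫ ψ = 0) (h₂ : ψ ≫ φ = 0),
        P (ShortComplex.mk φ ψ h₁).homology ∧ P (ShortComplex.mk ψ φ h₂).homology ∧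
        x = KZero.clSub P (ShortComplex.mk φ ψ h₁).homology -
          KZero.clSub P (ShortComplex.mk ψ φ h₂).homology := by
  constructor
  · intro hx
    obtain ⟨X, Y, hX, hY, rfl⟩ := exists_eq_sub P x
    rw [map_sub, incl_clSub P hX, incl_clSub P hY, sub_eq_zero] at hx
    obtain ⟨S, T, hS, hT, ⟨e⟩⟩ := Periodic.exists_of_cl_eq hx
    obtain ⟨M, φ, ψ, h₁, h₂, ⟨e₁⟩, ⟨e₂⟩⟩ := Periodic.exists_periodic hS hT e
    refine ⟨M, φ, ψ, h₁, h₂, P.prop_of_iso e₁.symm hX, P.prop_of_iso e₂.symm hY, ?_⟩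
    rw [clSub_iso P e₁.symm hX, clSub_iso P e₂.symm hY]
  · rintro ⟨M, φ, ψ, h₁, h₂, hA, hB, rfl⟩
    rw [map_sub, incl_clSub P hA, incl_clSub P hB, Periodic.cl_homology_eq h₁ h₂, sub_self]

variable {Q : Type u'} [Category.{v'} Q] [Abelian Q] (L : A ⥤ Q) [L.IsLocalization P.isoModSerre]
  [L.Additive] [PreservesFiniteLimits L] [PreservesFiniteColimits L]

/-- The map to the quotient on `K₀`. -/
noncomputable def quot : KZero.K0 A →+ KZero.K0 Q :=
  QuotientAddGroup.lift (KZero.relAb A) (FreeAbelianGroup.lift fun X => KZero.cl (L.obj X)) (by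
    rw [KZero.relAb, AddSubgroup.closure_le]
    rintro _ ⟨S, hS, rfl⟩
    simp only [SetLike.mem_coe, AddMonoidHom.mem_ker, map_sub, FreeAbelianGroup.lift_apply_of]
    have h := Periodic.cl_shortExact (hS.map_of_exact L)
    change KZero.cl (L.obj S.X₂) = KZero.cl (L.obj S.X₁) + KZero.cl (L.obj S.X₃) at h
    rw [h]
    abel)

theorem quot_cl (X : A) : quot L (KZero.cl X) = KZero.cl (L.obj X) :=
  FreeAbelianGroup.lift_apply_of _ _

include L in
theorem sub_mem_range_of_iso {X Y : A} (e : L.obj X ≅ L.obj Y) :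
    KZero.cl X - KZero.cl Y ∈ (incl P).range := by
  have key : ∀ {U V : A} (f : U ⟶ V), P.isoModSerre f → KZero.cl U - KZero.cl V ∈ (incl P).range := by
    intro U V f hf
    have hk : P (kernel f) := hf.1
    have hc : P (cokernel f) := hf.2
    have h1 : KZero.cl U = KZero.cl (kernel f) + KZero.cl (Abelian.image f) :=
      Periodic.cl_shortExact (S := ShortComplex.mk (kernel.ι f) (Abelian.factorThruImage f)
          (by rw [← cancel_mono (Abelian.image.ι f)]; simp))
        { exact := ShortComplex.exact_of_f_is_kernel _ (KernelFork.IsLimit.ofι' _ _ fun k hk =>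
            ⟨kernel.lift f k (by rw [← Abelian.image.fac f, reassoc_of% hk, zero_comp]),
              kernel.lift_ι _ _ _⟩) }
    have h2 : KZero.cl V = KZero.cl (Abelian.image f) + KZero.cl (cokernel f) :=
      Periodic.cl_shortExact (S := ShortComplex.mk (Abelian.image.ι f) (cokernel.π f)
          (kernel.condition _))
        { exact := ShortComplex.exact_of_f_is_kernel _ (kernelIsKernel _) }
    refine ⟨KZero.clSub P (kernel f) - KZero.clSub P (cokernel f), ?_⟩
    rw [map_sub, incl_clSub P hk, incl_clSub P hc, h1, h2]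
    abel
  obtain ⟨φ, hφ⟩ := Localization.exists_leftFraction L P.isoModSerre e.hom
  haveI := Localization.inverts L P.isoModSerre φ.s φ.hs
  have h1 : L.map φ.f = e.hom ≫ L.map φ.s := by
    rw [hφ, MorphismProperty.LeftFraction.map_comp_map_s]
  have h2 : P.isoModSerre φ.f := (ObjectProperty.SerreClassLocalization.isIso_map_iff L P φ.f).1 (h1 ▸ inferInstance)
  have := (incl P).range.sub_mem (key φ.f h2) (key φ.s φ.hs)
  simpa using this

include L in
theorem exists_inverse : ∃ ν : KZero.K0 Q →+ KZero.K0 A ⧸ (incl P).range,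
    ∀ X : A, ν (KZero.cl (L.obj X)) = QuotientAddGroup.mk (KZero.cl X) := by
  haveI := Localization.essSurj L P.isoModSerre
  have hiso : ∀ (Y : Q) (X : A), (L.obj X ≅ Y) →
      (QuotientAddGroup.mk (KZero.cl (L.objPreimage Y)) : KZero.K0 A ⧸ (incl P).range) =
        QuotientAddGroup.mk (KZero.cl X) := fun Y X e =>
    (QuotientAddGroup.eq_iff_sub_mem).2 (sub_mem_range_of_iso P L (L.objObjPreimageIso Y ≪≫ e.symm))
  refine ⟨QuotientAddGroup.lift (KZero.relAb Q)
    (FreeAbelianGroup.lift fun Y => QuotientAddGroup.mk (KZero.cl (L.objPreimage Y))) ?_,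
    fun X => (FreeAbelianGroup.lift_apply_of _ _).trans (hiso _ X (Iso.refl _))⟩
  rw [KZero.relAb, AddSubgroup.closure_le]
  rintro _ ⟨S, hS, rfl⟩
  simp only [SetLike.mem_coe, AddMonoidHom.mem_ker, map_sub, FreeAbelianGroup.lift_apply_of]
  haveI := hS.mono_f
  haveI := hS.epi_g
  obtain ⟨X', Y', f', hf', ⟨ea⟩⟩ := (ObjectProperty.SerreClassLocalization.mono_iff L P S.f).1 inferInstance
  let ec : L.obj (cokernel f') ≅ S.X₃ :=
    PreservesCokernel.iso L f' ≪≫
      cokernel.mapIso _ _ (Arrow.leftFunc.mapIso ea) (Arrow.rightFunc.mapIso ea) ea.hom.w.symm ≪≫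
      (cokernelIsCokernel S.f).coconePointUniqueUpToIso hS.gIsCokernel
  rw [hiso S.X₁ X' (Arrow.leftFunc.mapIso ea), hiso S.X₂ Y' (Arrow.rightFunc.mapIso ea), hiso _ _ ec,
    Periodic.cl_shortExact (S := ShortComplex.mk f' (cokernel.π f') (cokernel.condition f'))
      { exact := ShortComplex.exact_of_g_is_cokernel _ (cokernelIsCokernel f') }]
  simp [QuotientAddGroup.mk_add]

theorem main :
    ∃ (ι : KZero.K0sub P →+ KZero.K0 A) (lam : KZero.K0 A →+ KZero.K0 Q),
      (∀ X : A, P X → ι (KZero.clSub P X) = KZero.cl X) ∧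
      (∀ X : A, lam (KZero.cl X) = KZero.cl (L.obj X)) ∧
      Function.Surjective lam ∧ lam.ker = ι.range ∧
      ∀ x : KZero.K0sub P, ι x = 0 ↔
        ∃ (M : A) (φ ψ : M ⟶ M) (h₁ : φ ≫ ψ = 0) (h₂ : ψ ≫ φ = 0),
          P (ShortComplex.mk φ ψ h₁).homology ∧ P (ShortComplex.mk ψ φ h₂).homology ∧
          x = KZero.clSub P (ShortComplex.mk φ ψ h₁).homology -
            KZero.clSub P (ShortComplex.mk ψ φ h₂).homology := by
  haveI := Localization.essSurj L P.isoModSerre
  refine ⟨incl P, quot L, fun X hX => incl_clSub P hX, quot_cl L, ?_, ?_, incl_eq_zero_iff P⟩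
  · rw [← AddMonoidHom.range_eq_top, eq_top_iff, ← Periodic.closure_cl, AddSubgroup.closure_le]
    rintro _ ⟨Y, rfl⟩
    exact ⟨KZero.cl (L.objPreimage Y), (quot_cl L _).trans (Periodic.cl_iso (L.objObjPreimageIso Y))⟩
  · refine le_antisymm (fun z hz => ?_) ?_
    · obtain ⟨ν, hν⟩ := exists_inverse P L
      have hcomp : ν.comp (quot L) = QuotientAddGroup.mk' (incl P).range :=
        AddMonoidHom.eq_of_eqOn_dense Periodic.closure_cl (by
          rintro _ ⟨X, rfl⟩
          rw [AddMonoidHom.comp_apply, quot_cl]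
          exact hν X)
      have := congrArg (fun f => f z) hcomp
      simp only [AddMonoidHom.comp_apply, AddMonoidHom.mem_ker.1 hz, map_zero] at this
      exact (QuotientAddGroup.eq_zero_iff z).1 this.symm
    · rintro _ ⟨x, rfl⟩
      obtain ⟨X, Y, hX, hY, rfl⟩ := exists_eq_sub P x
      rw [AddMonoidHom.mem_ker, map_sub, map_sub, incl_clSub P hX, incl_clSub P hY, quot_cl, quot_cl,
        Periodic.cl_isZero ((ObjectProperty.SerreClassLocalization.isZero_obj_iff L P X).2 hX),
        Periodic.cl_isZero ((ObjectProperty.SerreClassLocalization.isZero_obj_iff L P Y).2 hY), sub_zero]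

end Groth.Agent.Lib.SerreK0.Main
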