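import Groth.Prelude.Def_KZero
import Mathlib.CategoryTheory.Abelian.SerreClass.Basic
import Mathlib.GroupTheory.MonoidLocalization.GrothendieckGroup
import Mathlib.Algebra.Homology.ShortComplex.Abelian
import Mathlib.CategoryTheory.IsomorphismClasses

/-!
`K₀` of an abelian category: elementary facts, and the description of equalities `[X] = [Y]`
through two short exact sequences and a 2-periodic complex.
-/

set_option autoImplicit false
set_option linter.style.haveILetI false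
set_option linter.unusedSectionVars false

universe v u

open CategoryTheory CategoryTheory.Limits
open scoped ZeroObject

namespace Groth.Agent.Lib.SerreK0.Periodic

variable {A : Type u} [Category.{v} A] [Abelian A]

theorem cl_shortExact {S : ShortComplex A} (hS : S.ShortExact) :
    KZero.cl S.X₂ = KZero.cl S.X₁ + KZero.cl S.X₃ := by
  have : (QuotientAddGroup.mk (FreeAbelianGroup.of S.X₂ - FreeAbelianGroup.of S.X₁ -
      FreeAbelianGroup.of S.X₃) : KZero.K0 A) = 0 :=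
    (QuotientAddGroup.eq_zero_iff _).2 (AddSubgroup.subset_closure ⟨S, hS, rfl⟩)
  rw [QuotientAddGroup.mk_sub, QuotientAddGroup.mk_sub] at this
  change KZero.cl S.X₂ - KZero.cl S.X₁ - KZero.cl S.X₃ = 0 at this
  rwa [sub_sub, sub_eq_zero] at this

/-- `0 → X → Y → 0 → 0` for an isomorphism. -/
theorem shortExact_iso {X Y : A} (e : X ≅ Y) :
    (ShortComplex.mk e.hom (0 : Y ⟶ 0) (by simp)).ShortExact :=
  { exact := by
      rw [ShortComplex.exact_iff_epi _ rfl]
      change Epi e.hom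
      infer_instance
    mono_f := by change Mono e.hom; infer_instance
    epi_g := ⟨fun _ _ _ => (isZero_zero A).eq_of_src _ _⟩ }

theorem cl_zero : KZero.cl (0 : A) = 0 := by
  have := cl_shortExact (shortExact_iso (Iso.refl (0 : A)))
  exact left_eq_add.mp this

theorem cl_iso {X Y : A} (e : X ≅ Y) : KZero.cl X = KZero.cl Y := by
  have h := cl_shortExact (shortExact_iso e)
  change KZero.cl Y = KZero.cl X + KZero.cl (0 : A) at h
  rw [cl_zero, add_zero] at h
  exact h.symm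

theorem cl_isZero {X : A} (h : IsZero X) : KZero.cl X = 0 := by
  rw [cl_iso h.isoZero, cl_zero]

theorem closure_cl : AddSubgroup.closure (Set.range (KZero.cl (A := A))) = ⊤ := by
  rw [eq_top_iff]
  rintro x -
  obtain ⟨x, rfl⟩ := QuotientAddGroup.mk_surjective x
  induction x using FreeAbelianGroup.induction_on with
  | zero => exact AddSubgroup.zero_mem _
  | of x => exact AddSubgroup.subset_closure ⟨x, rfl⟩
  | neg x hx => exact AddSubgroup.neg_mem _ hx
  | add x y hx hy => exact AddSubgroup.add_mem _ hx hy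

theorem shortExact_biprod {S T : ShortComplex A} (hS : S.ShortExact) (hT : T.ShortExact) :
    (ShortComplex.mk (biprod.map S.f T.f) (biprod.map S.g T.g) (by ext <;> simp)).ShortExact := by
  haveI := hS.mono_f
  haveI := hT.mono_f
  haveI := hS.epi_g
  haveI := hT.epi_g
  exact
    { exact := ShortComplex.exact_of_f_is_kernel _
        (KernelFork.IsLimit.ofι' _ _ fun k hk => by
          have h1 : (k ≫ biprod.fst) ≫ S.g = 0 := by simpa using congrArg (· ≫ biprod.fst) hk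
          have h2 : (k ≫ biprod.snd) ≫ T.g = 0 := by simpa using congrArg (· ≫ biprod.snd) hk
          exact ⟨biprod.lift (hS.exact.lift _ h1) (hT.exact.lift _ h2), by ext <;> simp⟩)
      mono_f := inferInstanceAs (Mono (biprod.map S.f T.f))
      epi_g := inferInstanceAs (Epi (biprod.map S.g T.g)) }

variable (A) in
/-- Isomorphism classes of objects. -/
def Cls : Type u := Quotient (isIsomorphicSetoid A)

/-- The isomorphism class of an object. -/
def ob (X : A) : Cls A := Quotient.mk _ X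

noncomputable instance : Zero (Cls A) := ⟨ob 0⟩

noncomputable instance : Add (Cls A) :=
  ⟨Quotient.map₂ (fun X Y => X ⊞ Y) fun _ _ ⟨e⟩ _ _ ⟨e'⟩ => ⟨biprod.mapIso e e'⟩⟩

theorem ob_add (X Y : A) : ob X + ob Y = ob (X ⊞ Y) := rfl

theorem ob_eq {X Y : A} : ob X = ob Y ↔ Nonempty (X ≅ Y) := Quotient.eq

theorem ob_zero_add (X : A) : ob (0 : A) + ob X = ob X :=
  Quotient.sound ⟨⟨biprod.snd, biprod.inr,
    biprod.hom_ext' _ _ ((isZero_zero A).eq_of_src _ _) (by simp), biprod.inr_snd⟩⟩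

noncomputable instance : AddCommMonoid (Cls A) where
  add_assoc := by
    rintro ⟨X⟩ ⟨Y⟩ ⟨Z⟩
    exact Quotient.sound ⟨biprod.associator X Y Z⟩
  add_comm := by
    rintro ⟨X⟩ ⟨Y⟩
    exact Quotient.sound ⟨biprod.braiding X Y⟩
  zero_add := by
    rintro ⟨X⟩
    exact ob_zero_add X
  add_zero := by
    rintro ⟨X⟩
    exact ((Quotient.sound ⟨biprod.braiding X (0 : A)⟩ : ob (X ⊞ 0) = ob (0 ⊞ X))).trans (ob_zero_add X)
  nsmul := nsmulRec

/-- The pairs `([S₂], [S₁] + [S₃])` of short exact sequences. -/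
def W (u v : Cls A) : Prop :=
  ∃ S : ShortComplex A, S.ShortExact ∧ u = ob S.X₂ ∧ v = ob S.X₁ + ob S.X₃

theorem W.add {u v u' v' : Cls A} (h : W u v) (h' : W u' v') : W (u + u') (v + v') := by
  obtain ⟨S, hS, rfl, rfl⟩ := h
  obtain ⟨T, hT, rfl, rfl⟩ := h'
  refine ⟨_, shortExact_biprod hS hT, rfl, ?_⟩
  rw [← ob_add, ← ob_add]
  abel

theorem W_refl (c : Cls A) : W c c := by
  obtain ⟨X, rfl⟩ : ∃ X, ob X = c := Quotient.exists_rep c
  refine ⟨_, shortExact_iso (Iso.refl X), rfl, ?_⟩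
  exact (add_zero (ob X)).symm

/-- The image in the group completion of the relations. -/
def relGrp : AddSubgroup (Algebra.GrothendieckAddGroup (Cls A)) where
  carrier := {z | ∃ u v u' v', W u v ∧ W u' v' ∧
    z + (Algebra.GrothendieckAddGroup.of v + Algebra.GrothendieckAddGroup.of u') =
      Algebra.GrothendieckAddGroup.of u + Algebra.GrothendieckAddGroup.of v'}
  zero_mem' := ⟨0, 0, 0, 0, W_refl 0, W_refl 0, by simp⟩
  add_mem' := by
    rintro z z' ⟨u, v, u', v', h, h', e⟩ ⟨p, q, p', q', k, k', f⟩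
    refine ⟨u + p, v + q, u' + p', v' + q', h.add k, h'.add k', ?_⟩
    simp only [map_add]
    calc _ = (z + (Algebra.GrothendieckAddGroup.of v + Algebra.GrothendieckAddGroup.of u')) +
          (z' + (Algebra.GrothendieckAddGroup.of q + Algebra.GrothendieckAddGroup.of p')) := by abel
      _ = _ := by rw [e, f]; abel
  neg_mem' := by
    rintro z ⟨u, v, u', v', h, h', e⟩
    refine ⟨u', v', u, v, h', h, ?_⟩
    rw [add_comm _ (Algebra.GrothendieckAddGroup.of u), ← e]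
    abel

theorem exists_of_cl_eq {X Y : A} (h : KZero.cl X = KZero.cl Y) :
    ∃ S T : ShortComplex A, S.ShortExact ∧ T.ShortExact ∧
      Nonempty (X ⊞ (S.X₂ ⊞ (T.X₁ ⊞ T.X₃)) ≅ Y ⊞ ((S.X₁ ⊞ S.X₃) ⊞ T.X₂)) := by
  let Φ : FreeAbelianGroup A →+ Algebra.GrothendieckAddGroup (Cls A) :=
    FreeAbelianGroup.lift fun X => Algebra.GrothendieckAddGroup.of (ob X)
  have hΦ : ∀ Z, Φ (FreeAbelianGroup.of Z) = Algebra.GrothendieckAddGroup.of (ob Z) :=
    fun Z => FreeAbelianGroup.lift_apply_of _ _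
  have hrel : KZero.relAb A ≤ relGrp.comap Φ := by
    rw [KZero.relAb, AddSubgroup.closure_le]
    rintro _ ⟨S, hS, rfl⟩
    refine ⟨ob S.X₂, ob S.X₁ + ob S.X₃, 0, 0, ⟨S, hS, rfl, rfl⟩, W_refl 0, ?_⟩
    simp only [map_sub, hΦ, map_add, map_zero]
    abel
  obtain ⟨u, v, u', v', ⟨S, hS, rfl, rfl⟩, ⟨T, hT, rfl, rfl⟩, e⟩ :
      Φ (FreeAbelianGroup.of Y - FreeAbelianGroup.of X) ∈ relGrp :=
    hrel (by
      rw [← QuotientAddGroup.eq_zero_iff, QuotientAddGroup.mk_sub]
      exact sub_eq_zero.2 h.symm)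
  rw [map_sub, hΦ, hΦ, sub_add_eq_add_sub, sub_eq_iff_eq_add, ← map_add, ← map_add, ← map_add,
    ← map_add] at e
  obtain ⟨c, hc⟩ := (AddLocalization.addMonoidOf (⊤ : AddSubmonoid (Cls A))).eq_iff_exists.1 e
  obtain ⟨C, hC⟩ : ∃ C, ob C = (c : Cls A) := Quotient.exists_rep _
  rw [← hC] at hc
  refine ⟨_, T, shortExact_biprod hS (shortExact_iso (Iso.refl C)), hT, ob_eq.1 ?_⟩
  simp only [← ob_add] at hc ⊢
  have hz : ob (0 : A) = 0 := rfl
  rw [hz]
  calc _ = ob C + (ob S.X₂ + (ob T.X₁ + ob T.X₃) + ob X) := by abel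
    _ = _ := by rw [← hc]; abel

theorem fst_inl_comp {X Y Z : A} (k : X ⊞ Y ⟶ Z) (h : biprod.inr ≫ k = 0) :
    biprod.fst ≫ biprod.inl ≫ k = k := by
  ext <;> simp [h]

/-- The 2-periodic complex of an isomorphism as in `exists_of_cl_eq`. -/
theorem exists_periodic {P₁ P₂ : A} {S T : ShortComplex A} (hS : S.ShortExact) (hT : T.ShortExact)
    (e : P₁ ⊞ (S.X₂ ⊞ (T.X₁ ⊞ T.X₃)) ≅ P₂ ⊞ ((S.X₁ ⊞ S.X₃) ⊞ T.X₂)) :
    ∃ (M : A) (φ ψ : M ⟶ M) (h₁ : φ ≫ ψ = 0) (h₂ : ψ ≫ φ = 0),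
      Nonempty ((ShortComplex.mk φ ψ h₁).homology ≅ P₁) ∧
      Nonempty ((ShortComplex.mk ψ φ h₂).homology ≅ P₂) := by
  haveI := hS.mono_f
  haveI := hT.mono_f
  haveI := hS.epi_g
  haveI := hT.epi_g
  let pR : P₂ ⊞ ((S.X₁ ⊞ S.X₃) ⊞ T.X₂) ⟶ P₁ ⊞ (S.X₂ ⊞ (T.X₁ ⊞ T.X₃)) :=
    biprod.snd ≫ biprod.desc (biprod.fst ≫ S.f ≫ biprod.inl ≫ biprod.inr)
      (T.g ≫ biprod.inr ≫ biprod.inr ≫ biprod.inr)
  let qL : P₁ ⊞ (S.X₂ ⊞ (T.X₁ ⊞ T.X₃)) ⟶ P₂ ⊞ ((S.X₁ ⊞ S.X₃) ⊞ T.X₂) :=
    biprod.snd ≫ biprod.desc (S.g ≫ biprod.inr ≫ biprod.inl ≫ biprod.inr)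
      (biprod.fst ≫ T.f ≫ biprod.inr ≫ biprod.inr)
  have hpq : pR ≫ qL = 0 := by ext <;> simp [pR, qL]
  have hqp : qL ≫ pR = 0 := by ext <;> simp [pR, qL]
  have h₁ : (e.hom ≫ pR) ≫ (qL ≫ e.inv) = 0 := by simp [reassoc_of% hpq]
  have h₂ : (qL ≫ e.inv) ≫ (e.hom ≫ pR) = 0 := by simp [hqp]
  refine ⟨_, e.hom ≫ pR, qL ≫ e.inv, h₁, h₂, ?_, ?_⟩
  · let i : P₁ ⊞ (S.X₁ ⊞ T.X₃) ⟶ P₁ ⊞ (S.X₂ ⊞ (T.X₁ ⊞ T.X₃)) :=
      biprod.map (𝟙 P₁) (biprod.map S.f biprod.inr)
    have wi : i ≫ qL = 0 := by ext <;> simp [i, qL]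
    haveI : Mono i := inferInstanceAs (Mono (biprod.map (𝟙 P₁) (biprod.map S.f biprod.inr)))
    have hi : IsLimit (KernelFork.ofι i wi) := KernelFork.IsLimit.ofι' i wi fun k hk => by
      have h1 : (k ≫ biprod.snd ≫ biprod.fst) ≫ S.g = 0 := by
        simpa [qL, biprod.desc_eq] using congrArg (· ≫ biprod.snd ≫ biprod.fst ≫ biprod.snd) hk
      have h2 : k ≫ biprod.snd ≫ biprod.snd ≫ biprod.fst = 0 := by
        rw [← cancel_mono T.f]
        simpa [qL, biprod.desc_eq] using congrArg (· ≫ biprod.snd ≫ biprod.snd) hk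
      exact ⟨biprod.lift (k ≫ biprod.fst)
        (biprod.lift (hS.exact.lift _ h1) (k ≫ biprod.snd ≫ biprod.snd ≫ biprod.snd)),
        by ext <;> simp [i, h2]⟩
    have hlift : hi.lift (KernelFork.ofι pR hpq) = biprod.snd ≫ biprod.map biprod.fst T.g ≫ biprod.inr :=
      Fork.IsLimit.hom_ext hi ((hi.fac _ WalkingParallelPair.zero).trans
        (show pR = (biprod.snd ≫ biprod.map biprod.fst T.g ≫ biprod.inr) ≫ i by ext <;> simp [pR, i]))
    haveI : Epi (biprod.map (biprod.fst : S.X₁ ⊞ S.X₃ ⟶ S.X₁) T.g) := inferInstance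
    have wπ : hi.lift (KernelFork.ofι pR hpq) ≫ (biprod.fst : P₁ ⊞ (S.X₁ ⊞ T.X₃) ⟶ P₁) = 0 := by
      simp [hlift]
    let h : (ShortComplex.mk pR qL hpq).LeftHomologyData :=
      { K := P₁ ⊞ (S.X₁ ⊞ T.X₃)
        H := P₁
        i := i
        π := biprod.fst
        wi := wi
        hi := hi
        wπ := wπ
        hπ := CokernelCofork.IsColimit.ofπ' _ wπ fun k hk => by
          change hi.lift (KernelFork.ofι pR hpq) ≫ k = 0 at hk
          rw [hlift, Category.assoc, Category.assoc, ← Category.assoc,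
            ← comp_zero (f := biprod.snd ≫ biprod.map (biprod.fst : S.X₁ ⊞ S.X₃ ⟶ S.X₁) T.g),
            cancel_epi] at hk
          exact ⟨biprod.inl ≫ k, fst_inl_comp k hk⟩ }
    exact ⟨ShortComplex.homologyMapIso (ShortComplex.isoMk e (Iso.refl _) e (by simp) (by simp) :
      ShortComplex.mk (e.hom ≫ pR) (qL ≫ e.inv) h₁ ≅ ShortComplex.mk pR qL hpq) ≪≫ h.homologyIso⟩
  · let i : P₂ ⊞ (S.X₃ ⊞ T.X₁) ⟶ P₂ ⊞ ((S.X₁ ⊞ S.X₃) ⊞ T.X₂) :=
      biprod.map (𝟙 P₂) (biprod.map biprod.inr T.f)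
    have wi : i ≫ pR = 0 := by ext <;> simp [i, pR]
    haveI : Mono i := inferInstanceAs (Mono (biprod.map (𝟙 P₂) (biprod.map biprod.inr T.f)))
    have hi : IsLimit (KernelFork.ofι i wi) := KernelFork.IsLimit.ofι' i wi fun k hk => by
      have h1 : (k ≫ biprod.snd ≫ biprod.snd) ≫ T.g = 0 := by
        simpa [pR, biprod.desc_eq] using congrArg (· ≫ biprod.snd ≫ biprod.snd ≫ biprod.snd) hk
      have h2 : k ≫ biprod.snd ≫ biprod.fst ≫ biprod.fst = 0 := by
        rw [← cancel_mono S.f]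
        simpa [pR, biprod.desc_eq] using congrArg (· ≫ biprod.snd ≫ biprod.fst) hk
      exact ⟨biprod.lift (k ≫ biprod.fst)
        (biprod.lift (k ≫ biprod.snd ≫ biprod.fst ≫ biprod.snd) (hT.exact.lift _ h1)),
        by ext <;> simp [i, h2]⟩
    have hlift : hi.lift (KernelFork.ofι qL hqp) = biprod.snd ≫ biprod.map S.g biprod.fst ≫ biprod.inr :=
      Fork.IsLimit.hom_ext hi ((hi.fac _ WalkingParallelPair.zero).trans
        (show qL = (biprod.snd ≫ biprod.map S.g biprod.fst ≫ biprod.inr) ≫ i by ext <;> simp [qL, i]))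
    haveI : Epi (biprod.map S.g (biprod.fst : T.X₁ ⊞ T.X₃ ⟶ T.X₁)) := inferInstance
    have wπ : hi.lift (KernelFork.ofι qL hqp) ≫ (biprod.fst : P₂ ⊞ (S.X₃ ⊞ T.X₁) ⟶ P₂) = 0 := by
      simp [hlift]
    let h : (ShortComplex.mk qL pR hqp).LeftHomologyData :=
      { K := P₂ ⊞ (S.X₃ ⊞ T.X₁)
        H := P₂
        i := i
        π := biprod.fst
        wi := wi
        hi := hi
        wπ := wπ
        hπ := CokernelCofork.IsColimit.ofπ' _ wπ fun k hk => by
          change hi.lift (KernelFork.ofι qL hqp) ≫ k = 0 at hk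
          rw [hlift, Category.assoc, Category.assoc, ← Category.assoc,
            ← comp_zero (f := biprod.snd ≫ biprod.map S.g (biprod.fst : T.X₁ ⊞ T.X₃ ⟶ T.X₁)),
            cancel_epi] at hk
          exact ⟨biprod.inl ≫ k, fst_inl_comp k hk⟩ }
    exact ⟨ShortComplex.homologyMapIso (ShortComplex.isoMk (Iso.refl _) e (Iso.refl _) (by simp) (by simp) :
      ShortComplex.mk (qL ≫ e.inv) (e.hom ≫ pR) h₂ ≅ ShortComplex.mk qL pR hqp) ≪≫ h.homologyIso⟩

/-- The Euler relation of a 2-periodic complex. -/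
theorem cl_homology_eq {M : A} {φ ψ : M ⟶ M} (h₁ : φ ≫ ψ = 0) (h₂ : ψ ≫ φ = 0) :
    KZero.cl (ShortComplex.mk φ ψ h₁).homology = KZero.cl (ShortComplex.mk ψ φ h₂).homology := by
  have hker : ∀ {X Y : A} (f : X ⟶ Y),
      KZero.cl X = KZero.cl (kernel f) + KZero.cl (Abelian.image f) := fun f => by
    have hs : (ShortComplex.mk (kernel.ι f) (Abelian.factorThruImage f)
        (by rw [← cancel_mono (Abelian.image.ι f)]; simp)).ShortExact :=
      { exact := ShortComplex.exact_of_f_is_kernel _ (KernelFork.IsLimit.ofι' _ _ fun k hk => by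
          exact ⟨kernel.lift f k (by rw [← Abelian.image.fac f, reassoc_of% hk, zero_comp]),
            kernel.lift_ι _ _ _⟩) }
    exact cl_shortExact hs
  have hhom : ∀ {X Y Z : A} (f : X ⟶ Y) (g : Y ⟶ Z) (h : f ≫ g = 0),
      KZero.cl (kernel g) = KZero.cl (Abelian.image f) + KZero.cl (ShortComplex.mk f g h).homology := by
    intro X Y Z f g h
    let Q : Abelian.image f ⟶ kernel g := kernel.lift g (Abelian.image.ι f) (by
      rw [← cancel_epi (Abelian.factorThruImage f), comp_zero, kernel.lift_ι_assoc, h])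
    have hQ : Abelian.factorThruImage f ≫ Q = kernel.lift g f h := by
      rw [← cancel_mono (kernel.ι g)]; simp [Q]
    haveI : Mono Q := mono_of_mono_fac (kernel.lift_ι g (Abelian.image.ι f) _)
    have hs : (ShortComplex.mk Q (cokernel.π Q) (cokernel.condition Q)).ShortExact :=
      { exact := ShortComplex.exact_of_g_is_cokernel _ (cokernelIsCokernel Q) }
    rw [cl_shortExact hs]
    congr 1
    refine cl_iso ?_
    let d := ShortComplex.LeftHomologyData.ofHasKernelOfHasCokernel (ShortComplex.mk f g h)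
    exact (cokernelEpiComp (Abelian.factorThruImage f) Q).symm ≪≫ cokernelIsoOfEq hQ ≪≫ d.homologyIso.symm
  have e := (hker φ).symm.trans (hker ψ)
  rw [hhom φ ψ h₁, hhom ψ φ h₂] at e
  refine add_left_cancel (a := KZero.cl (Abelian.image φ) + KZero.cl (Abelian.image ψ)) ?_
  calc _ = KZero.cl (Abelian.image φ) + KZero.cl (ShortComplex.mk φ ψ h₁).homology +
        KZero.cl (Abelian.image ψ) := by abel
    _ = _ := by rw [← e]; abel

end Groth.Agent.Lib.SerreK0.Periodic
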